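import Mathlib

/-!
Two-transitive groups with an involution whose centraliser has constant fixity: the first count.

Every element interchanging two points is then conjugate to the given involution.
-/

set_option autoImplicit false
set_option linter.unusedSectionVars false
set_option linter.style.haveILetI false

namespace Cfsg.Lib.ConstFixity

open MulAction
open scoped _root_.Classical

variable {G : Type*} {Ω : Type*} [Group G] [MulAction G Ω]

/-- The number of fixed points. -/
noncomputable def nFix (Ω : Type*) [MulAction G Ω] (g : G) : ℕ := Nat.card {x : Ω // g • x = x}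

/-- The two-point stabiliser. -/
abbrev pairStab (G : Type*) [Group G] [MulAction G Ω] (a b : Ω) : Subgroup G :=
  stabilizer G a ⊓ stabilizer G b

theorem card_filter_univ {α : Type*} [Fintype α] (p : α → Prop) [DecidablePred p] :
    (Finset.univ.filter p).card = Nat.card {x // p x} := by
  rw [Nat.card_eq_fintype_card, Fintype.card_subtype]

theorem card_const_fiber {α β : Type*} [DecidableEq β] (P : Finset α) (T : Finset β) (f : α → β) {r : ℕ}
    (hf : ∀ x ∈ P, f x ∈ T) (h : ∀ y ∈ T, (P.filter fun x => f x = y).card = r) : P.card = T.card * r := by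
  rw [Finset.card_eq_sum_card_fiberwise (f := f) (t := T) hf, Finset.sum_const_nat h]

theorem nFix_conj (g h : G) : nFix Ω (g * h * g⁻¹) = nFix Ω h :=
  Nat.card_congr
    { toFun := fun x => ⟨g⁻¹ • (x : Ω), by
        have e : g • h • g⁻¹ • (x : Ω) = x := by
          have := x.2
          rwa [mul_smul, mul_smul] at this
        exact (eq_inv_smul_iff.2 e)⟩
      invFun := fun x => ⟨g • (x : Ω), by rw [mul_smul, mul_smul, inv_smul_smul, x.2]⟩
      left_inv := fun x => Subtype.ext (smul_inv_smul g (x : Ω))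
      right_inv := fun x => Subtype.ext (inv_smul_smul g (x : Ω)) }

/-- The elements moving a pair as a given element form a coset of the stabiliser of the pair. -/
theorem card_coset {a b x y : Ω} {g₀ : G} (ha : g₀ • a = x) (hb : g₀ • b = y) :
    Nat.card {g : G // g • a = x ∧ g • b = y} = Nat.card (pairStab G a b) :=
  Nat.card_congr
    { toFun := fun g => ⟨g₀⁻¹ * (g : G), Subgroup.mem_inf.2
        ⟨show (g₀⁻¹ * (g : G)) • a = a by rw [mul_smul, g.2.1, ← ha, inv_smul_smul],
         show (g₀⁻¹ * (g : G)) • b = b by rw [mul_smul, g.2.2, ← hb, inv_smul_smul]⟩⟩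
      invFun := fun d => ⟨g₀ * (d : G),
        by rw [mul_smul, show (d : G) • a = a from (Subgroup.mem_inf.1 d.2).1, ha],
        by rw [mul_smul, show (d : G) • b = b from (Subgroup.mem_inf.1 d.2).2, hb]⟩
      left_inv := fun g => Subtype.ext (mul_inv_cancel_left g₀ (g : G))
      right_inv := fun d => Subtype.ext (inv_mul_cancel_left g₀ (d : G)) }

variable [Finite G] [Fintype Ω]

theorem card_group (h2 : IsMultiplyPretransitive G Ω 2) {a b : Ω} (hab : a ≠ b) :
    Nat.card G = (Fintype.card Ω * Fintype.card Ω - Fintype.card Ω) * Nat.card (pairStab G a b) := by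
  letI := Fintype.ofFinite G
  rw [Nat.card_eq_fintype_card]
  show (Finset.univ : Finset G).card = _
  rw [card_const_fiber Finset.univ (Finset.univ : Finset Ω).offDiag (fun g => (g • a, g • b))
    (r := Nat.card (pairStab G a b)) (fun g _ => by simp [hab]), Finset.offDiag_card, Finset.card_univ]
  rintro ⟨x, y⟩ hxy
  rw [card_filter_univ]
  obtain ⟨g, ga, gb⟩ := is_two_pretransitive_iff.1 h2 hab (Finset.mem_offDiag.1 hxy).2.2
  simp only [Prod.mk.injEq]
  exact card_coset ga gb

theorem card_class (t : G) [DecidableEq G] [Fintype G] :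
    (Finset.univ.filter fun v => IsConj t v).card * Nat.card (Subgroup.centralizer ({t} : Set G)) = Nat.card G := by
  rw [Nat.card_eq_fintype_card (α := G)]
  refine (card_const_fiber (Finset.univ : Finset G) _ (fun g => g * t * g⁻¹) (fun g _ => ?_) fun v hv => ?_).symm
  · exact Finset.mem_filter.2 ⟨Finset.mem_univ _, isConj_iff.2 ⟨g, rfl⟩⟩
  · rw [card_filter_univ]
    obtain ⟨g₀, rfl⟩ := isConj_iff.1 (Finset.mem_filter.1 hv).2
    refine Nat.card_congr
      { toFun := fun g => ⟨g₀⁻¹ * (g : G), Subgroup.mem_centralizer_singleton_iff.2 ?_⟩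
        invFun := fun c => ⟨g₀ * (c : G), ?_⟩
        left_inv := fun g => Subtype.ext (mul_inv_cancel_left g₀ (g : G))
        right_inv := fun c => Subtype.ext (inv_mul_cancel_left g₀ (c : G)) }
    · calc g₀⁻¹ * (g : G) * t = g₀⁻¹ * ((g : G) * t * (g : G)⁻¹) * (g : G) := by group
        _ = g₀⁻¹ * (g₀ * t * g₀⁻¹) * (g : G) := by rw [g.2]
        _ = _ := by group
    · rw [mul_inv_rev, show g₀ * (c : G) * t = g₀ * ((c : G) * t) from mul_assoc _ _ _,
        Subgroup.mem_centralizer_singleton_iff.1 c.2]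
      group

/-- The orbit count on the centraliser. -/
theorem card_cent_dvd {i : ℕ} {t : G} (hC : ∀ g : G, Commute g t → g ≠ 1 → nFix Ω g = i) (hi : i ≤ Fintype.card Ω) :
    Nat.card (Subgroup.centralizer ({t} : Set G)) ∣ Fintype.card Ω - i := by
  set C := Subgroup.centralizer ({t} : Set G)
  letI := Fintype.ofFinite C
  letI : ∀ g : C, Fintype (fixedBy Ω g) := fun g => Fintype.ofFinite _
  letI : Fintype (Quotient (orbitRel C Ω)) := Fintype.ofFinite _
  have h := sum_card_fixedBy_eq_card_orbits_mul_card_group C Ω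
  rw [← Finset.add_sum_erase _ _ (Finset.mem_univ (1 : C)), Finset.sum_const_nat (m := i) fun g hg => ?_,
    Finset.card_erase_of_mem (Finset.mem_univ _), Finset.card_univ] at h
  · rw [show Fintype.card (fixedBy Ω (1 : C)) = Fintype.card Ω from Fintype.card_congr
      (Equiv.subtypeUnivEquiv fun x => one_smul C x)] at h
    rw [Nat.card_eq_fintype_card]
    have hpos : 1 ≤ Fintype.card C := Fintype.card_pos
    have e : Fintype.card Ω - i + Fintype.card C * i = Fintype.card (Quotient (orbitRel C Ω)) * Fintype.card C := by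
      rw [← h]
      obtain ⟨m, hm⟩ : ∃ m, Fintype.card C = m + 1 := ⟨_, (Nat.sub_add_cancel hpos).symm⟩
      rw [hm, Nat.add_sub_cancel, add_mul, one_mul]
      omega
    exact (Nat.dvd_add_left (dvd_mul_right _ _)).1 (e ▸ dvd_mul_left _ _)
  · rw [← Nat.card_eq_fintype_card]
    exact hC g (Subgroup.mem_centralizer_singleton_iff.1 g.2)
      (fun e => (Finset.mem_erase.1 hg).1 (Subtype.ext e))

/-- The standing consequences of the hypothesis. -/
structure Hyp (G : Type*) (Ω : Type*) [Group G] [MulAction G Ω] [Fintype Ω] (i : ℕ) : Prop where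
  two : IsMultiplyPretransitive G Ω 2
  faith : FaithfulSMul G Ω
  fix : ∀ v : G, v * v = 1 → v ≠ 1 → nFix Ω v = i
  cent : ∀ v : G, v * v = 1 → v ≠ 1 → ∀ g, Commute g v → g ≠ 1 → nFix Ω g = i
  card_cent : ∀ v : G, v * v = 1 → v ≠ 1 → Nat.card (Subgroup.centralizer ({v} : Set G)) + i = Fintype.card Ω
  conj : ∀ v w : G, v * v = 1 → v ≠ 1 → w * w = 1 → w ≠ 1 → IsConj v w
  swap_sq : ∀ (u : G) (a b : Ω), a ≠ b → u • a = b → u • b = a → u * u = 1
  exists_swap : ∀ a b : Ω, a ≠ b → ∃ u : G, u • a = b ∧ u • b = a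
  two_points : ∃ a b : Ω, a ≠ b

theorem hyp_of [FaithfulSMul G Ω] (h2 : IsMultiplyPretransitive G Ω 2) {i : ℕ} {t : G} (ht : orderOf t = 2)
    (hti : nFix Ω t = i) (hC : ∀ g : G, Commute g t → g ≠ 1 → nFix Ω g = i) : Hyp G Ω i := by
  letI := Fintype.ofFinite G
  have ht1 : t ≠ 1 := fun e => by rw [e, orderOf_one] at ht; omega
  have ht2 : t * t = 1 := by have := pow_orderOf_eq_one t; rwa [ht, pow_two] at this
  obtain ⟨a, ha⟩ : ∃ a : Ω, t • a ≠ a := by
    by_contra! h
    exact ht1 (eq_of_smul_eq_smul fun x : Ω => (h x).trans (one_smul G x).symm)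
  have hfix_compl : ∀ v : G, nFix Ω v = i → Nat.card {x : Ω // v • x ≠ x} = Fintype.card Ω - i := fun v hv => by
    rw [Nat.card_eq_fintype_card, Fintype.card_subtype_compl, ← hv, nFix, Nat.card_eq_fintype_card]
  have hin : i < Fintype.card Ω := by
    rw [← hti, nFix, Nat.card_eq_fintype_card]
    exact Fintype.card_subtype_lt ha
  set n := Fintype.card Ω with hn
  set T := Finset.univ.filter fun v => IsConj t v with hT
  have hmemT : ∀ v, IsConj t v → v ∈ T := fun v hv => Finset.mem_filter.2 ⟨Finset.mem_univ _, hv⟩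
  have hTfix : ∀ v ∈ T, nFix Ω v = i := fun v hv => by
    obtain ⟨g, rfl⟩ := isConj_iff.1 (Finset.mem_filter.1 hv).2
    rw [nFix_conj, hti]
  have hTsq : ∀ v ∈ T, v * v = 1 := fun v hv => by
    obtain ⟨g, rfl⟩ := isConj_iff.1 (Finset.mem_filter.1 hv).2
    calc g * t * g⁻¹ * (g * t * g⁻¹) = g * (t * t) * g⁻¹ := by group
      _ = 1 := by rw [ht2]; group
  set P := (T ×ˢ (Finset.univ : Finset Ω)).filter fun z => z.1 • z.2 ≠ z.2 with hP
  have hP1 : P.card = T.card * (n - i) := by
    refine card_const_fiber P T Prod.fst (fun z hz => (Finset.mem_product.1 (Finset.mem_filter.1 hz).1).1) fun v hv => ?_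
    rw [← hfix_compl v (hTfix v hv), ← card_filter_univ]
    refine Finset.card_bij' (fun z _ => z.2) (fun x _ => (v, x)) ?_ ?_ ?_ fun x _ => rfl
    · intro z hz
      obtain ⟨hz1, rfl⟩ := Finset.mem_filter.1 hz
      simpa using (Finset.mem_filter.1 hz1).2
    · intro x hx
      simp only [Finset.mem_filter, Finset.mem_univ, true_and] at hx
      simp [hP, hv, hx]
    · intro z hz
      obtain ⟨-, rfl⟩ := Finset.mem_filter.1 hz
      rfl
  set r := (T.filter fun v => v • a = t • a).card with hr
  have hS : ∀ x y : Ω, x ≠ y → (T.filter fun v => v • x = y).card = r := fun x y hxy => by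
    obtain ⟨g, gx, gy⟩ := is_two_pretransitive_iff.1 h2 hxy (Ne.symm ha)
    refine Finset.card_bij' (fun v _ => g * v * g⁻¹) (fun v _ => g⁻¹ * v * g) ?_ ?_ (fun v _ => by group) (fun v _ => by group)
    · intro v hv
      simp only [hT, Finset.mem_filter, Finset.mem_univ, true_and] at hv ⊢
      exact ⟨hv.1.trans (isConj_iff.2 ⟨g, rfl⟩), by rw [mul_smul, mul_smul, inv_smul_eq_iff.2 gx.symm, hv.2, gy]⟩
    · intro v hv
      simp only [hT, Finset.mem_filter, Finset.mem_univ, true_and] at hv ⊢
      exact ⟨hv.1.trans (isConj_iff.2 ⟨g⁻¹, by rw [inv_inv]⟩), by rw [mul_smul, mul_smul, gx, hv.2, inv_smul_eq_iff.2 gy.symm]⟩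
  have hP2 : P.card = (n * n - n) * r := by
    rw [card_const_fiber P (Finset.univ : Finset Ω).offDiag (fun z => (z.2, z.1 • z.2)) (r := r) (fun z hz => by
      simpa using (Ne.symm (Finset.mem_filter.1 hz).2)) ?_, Finset.offDiag_card, Finset.card_univ]
    rintro ⟨x, y⟩ hxy
    have hne : x ≠ y := (Finset.mem_offDiag.1 hxy).2.2
    rw [← hS x y hne]
    refine Finset.card_bij' (fun z _ => z.1) (fun v _ => (v, x)) ?_ ?_ ?_ fun v _ => rfl
    · intro z hz
      simp only [hP, Finset.mem_filter, Finset.mem_product, Prod.mk.injEq] at hz ⊢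
      exact ⟨hz.1.1.1, hz.2.1 ▸ hz.2.2⟩
    · intro v hv
      simp only [hP, Finset.mem_filter, Finset.mem_product, Finset.mem_univ, and_true, Prod.mk.injEq] at hv ⊢
      exact ⟨⟨hv.1, hv.2.symm ▸ hne.symm⟩, trivial, hv.2⟩
    · intro z hz
      obtain ⟨-, e⟩ := Finset.mem_filter.1 hz
      exact Prod.ext rfl (congrArg Prod.fst e).symm
  obtain ⟨u₀, hu₀⟩ := is_two_pretransitive_iff.1 h2 (Ne.symm ha) ha
  set D := Nat.card (pairStab G a (t • a)) with hD
  have hrD : r ≤ D := by
    rw [hD, ← card_coset hu₀.1 hu₀.2, ← card_filter_univ]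
    refine Finset.card_le_card fun v hv => ?_
    obtain ⟨hvT, hva⟩ := Finset.mem_filter.1 hv
    simp only [Finset.mem_filter, Finset.mem_univ, true_and]
    exact ⟨hva, by rw [← hva, ← mul_smul, hTsq v hvT, one_smul]⟩
  obtain ⟨c, hc⟩ := card_cent_dvd hC hin.le
  rw [← hn] at hc
  have hnn : 0 < n * n - n := Nat.sub_pos_of_lt (lt_mul_of_one_lt_left (by omega) (Fintype.one_lt_card_iff.2 ⟨t • a, a, ha⟩))
  have hkey : r = D * c := by
    refine Nat.eq_of_mul_eq_mul_left (Nat.mul_pos (Nat.card_pos (α := Subgroup.centralizer ({t} : Set G))) hnn) ?_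
    have h1 : T.card * (n - i) = (n * n - n) * r := hP1.symm.trans hP2
    have h3 := card_class (G := G) t
    rw [← hT, card_group h2 (Ne.symm ha), ← hn, ← hD] at h3
    calc _ = Nat.card (Subgroup.centralizer ({t} : Set G)) * ((n * n - n) * r) := mul_assoc _ _ _
      _ = T.card * Nat.card (Subgroup.centralizer ({t} : Set G)) * (Nat.card (Subgroup.centralizer ({t} : Set G)) * c) := by
        rw [← h1, hc]; ring
      _ = (n * n - n) * D * (Nat.card (Subgroup.centralizer ({t} : Set G)) * c) := by rw [h3]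
      _ = _ := by ring
  have hD0 : 0 < D := Nat.card_pos
  have hc1 : c = 1 := by
    rcases Nat.lt_trichotomy c 1 with h | h | h
    · rw [show c = 0 by omega, mul_zero] at hc
      omega
    · exact h
    · have := lt_mul_of_one_lt_right hD0 h
      omega
  rw [hc1, mul_one] at hkey hc
  -- every element interchanging two points is conjugate to `t`
  have hswap : ∀ (u : G) (x y : Ω), x ≠ y → u • x = y → u • y = x → IsConj t u := fun u x y hxy hux huy => by
    have hsub : (T.filter fun v => v • x = y) = Finset.univ.filter fun g => g • x = y ∧ g • y = x := by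
      refine Finset.eq_of_subset_of_card_le (fun v hv => ?_) ?_
      · obtain ⟨hvT, hva⟩ := Finset.mem_filter.1 hv
        simp only [Finset.mem_filter, Finset.mem_univ, true_and]
        exact ⟨hva, by rw [← hva, ← mul_smul, hTsq v hvT, one_smul]⟩
      · rw [card_filter_univ, card_coset hux huy, hS x y hxy, hkey, hD]
        refine (Nat.eq_of_mul_eq_mul_left hnn ?_).le
        exact (card_group h2 hxy).symm.trans (card_group h2 (Ne.symm ha))
    have hu : u ∈ Finset.univ.filter fun g => g • x = y ∧ g • y = x := by simp [hux, huy]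
    rw [← hsub] at hu
    exact (Finset.mem_filter.1 (Finset.mem_filter.1 hu).1).2
  have hconj : ∀ v : G, v * v = 1 → v ≠ 1 → IsConj t v := fun v hv hv1 => by
    obtain ⟨x, hx⟩ : ∃ x : Ω, v • x ≠ x := by
      by_contra! h
      exact hv1 (eq_of_smul_eq_smul fun x : Ω => (h x).trans (one_smul G x).symm)
    exact hswap v x (v • x) (Ne.symm hx) rfl (by rw [← mul_smul, hv, one_smul])
  refine ⟨h2, ‹_›, fun v hv hv1 => hTfix v (hmemT v (hconj v hv hv1)), fun v hv hv1 g hg hg1 => ?_,
    fun v hv hv1 => ?_, fun v w hv hv1 hw hw1 => (hconj v hv hv1).symm.trans (hconj w hw hw1),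
    fun u x y hxy hux huy => hTsq u (hmemT u (hswap u x y hxy hux huy)),
    fun x y hxy => is_two_pretransitive_iff.1 h2 hxy hxy.symm, ⟨a, t • a, Ne.symm ha⟩⟩
  · obtain ⟨h, rfl⟩ := isConj_iff.1 (hconj v hv hv1)
    rw [show g = h * (h⁻¹ * g * h) * h⁻¹ by group, nFix_conj]
    refine hC _ ?_ fun e => hg1 ?_
    · calc h⁻¹ * g * h * t = h⁻¹ * (g * (h * t * h⁻¹)) * h := by group
        _ = h⁻¹ * (h * t * h⁻¹ * g) * h := by rw [hg.eq]
        _ = t * (h⁻¹ * g * h) := by group
    · calc g = h * (h⁻¹ * g * h) * h⁻¹ := by group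
        _ = 1 := by rw [e]; group
  · obtain ⟨h, rfl⟩ := isConj_iff.1 (hconj v hv hv1)
    have e : Nat.card (Subgroup.centralizer ({h * t * h⁻¹} : Set G)) = Nat.card (Subgroup.centralizer ({t} : Set G)) := by
      have h' := card_class (G := G) (h * t * h⁻¹)
      have hset : (Finset.univ.filter fun v => IsConj (h * t * h⁻¹) v) = T := by
        ext v
        simp only [hT, Finset.mem_filter, Finset.mem_univ, true_and]
        exact ⟨fun e => (isConj_iff.2 ⟨h, rfl⟩ : IsConj t (h * t * h⁻¹)).trans e,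
          fun e => (isConj_iff.2 ⟨h, rfl⟩ : IsConj t (h * t * h⁻¹)).symm.trans e⟩
      rw [hset] at h'
      refine Nat.eq_of_mul_eq_mul_left ?_ (h'.trans (card_class t).symm)
      exact Finset.card_pos.2 ⟨t, hmemT t (IsConj.refl t)⟩
    rw [e, ← hc]
    omega

end Cfsg.Lib.ConstFixity
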