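import Cfsg.Agent.ConstFixity.Many
import Cfsg.Agent.RankOne.Zassenhaus
import Cfsg.Agent.SuzukiUnique.Zassenhaus
import Cfsg.Agent.PermGroups.SharplyTwo
import Cfsg.Agent.S0205
import Cfsg.Agent.S0225
import Mathlib.GroupTheory.SpecificGroups.KleinFour

/-!
Two-transitive groups with an involution whose centraliser has constant fixity: the conclusion.
-/

set_option autoImplicit false
set_option linter.unusedSectionVars false
set_option linter.style.haveILetI false

namespace Cfsg.Lib.ConstFixity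

open MulAction
open scoped commutatorElement
open scoped _root_.Classical

variable {G : Type*} {Ω : Type*} [Group G] [MulAction G Ω] [Finite G] [Fintype Ω] {i : ℕ}

/-- There is a normal subgroup acting regularly. -/
def HasRegularNormal (G Ω : Type*) [Group G] [MulAction G Ω] : Prop :=
  ∃ R : Subgroup G, R.Normal ∧ (∀ x y : Ω, ∃ r ∈ R, r • x = y) ∧ ∀ x : Ω, ∀ r ∈ R, r • x = x → r = 1

theorem regular_of_solvable_normal [FaithfulSMul G Ω] (h2 : IsMultiplyPretransitive G Ω 2) {N : Subgroup G}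
    (hN : N.Normal) (hne : N ≠ ⊥) (hsol : Group.IsSolvable N) : HasRegularNormal G Ω := by
  have hex : ∃ m, ∃ R : Subgroup G, R ≤ N ∧ R ≠ ⊥ ∧ R.Normal ∧ Nat.card R = m := ⟨_, N, le_rfl, hne, hN, rfl⟩
  obtain ⟨R, hRN, hRne, hRn, hRc⟩ := Nat.find_spec hex
  haveI := hRn
  haveI := hsol
  haveI : Group.IsSolvable R := Group.isSolvable_of_isSolvable_injective (Subgroup.inclusion_injective hRN)
  haveI : Nontrivial R := (Subgroup.nontrivial_iff_ne_bot R).2 hRne
  have hbot : ⁅R, R⁆ = ⊥ := by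
    by_contra hb
    have hlt : ⁅(⊤ : Subgroup R), (⊤ : Subgroup R)⁆ < ⊤ := Group.IsSolvable.commutator_lt_top_of_nontrivial R
    have hmap : (⁅(⊤ : Subgroup R), (⊤ : Subgroup R)⁆).map R.subtype = ⁅R, R⁆ := by
      rw [Subgroup.map_commutator, ← MonoidHom.range_eq_map, Subgroup.range_subtype]
    have hcard : Nat.card ↥⁅R, R⁆ < Nat.card R := by
      rw [← hmap, Subgroup.card_map_of_injective R.subtype_injective]
      exact lt_of_le_of_ne (Nat.le_of_dvd Nat.card_pos (Subgroup.card_subgroup_dvd_card _))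
        fun e => hlt.ne (Subgroup.eq_top_of_card_eq _ e)
    exact Nat.find_min hex (hRc ▸ hcard) ⟨⁅R, R⁆, (hmap ▸ Subgroup.map_subtype_le _ : ⁅R, R⁆ ≤ R).trans hRN, hb,
      inferInstance, rfl⟩
  have hcomm : ∀ x ∈ R, ∀ y ∈ R, x * y = y * x := fun x hx y hy =>
    commutatorElement_eq_one_iff_mul_comm.1 (Subgroup.mem_bot.1 (hbot ▸ Subgroup.commutator_mem_commutator hx hy))
  haveI := Cfsg.Lib.RankOne.normal_pretransitive h2 hRn hRne
  refine ⟨R, hRn, fun x y => (exists_smul_eq R x y).elim fun r hr => ⟨r, r.2, hr⟩, fun x r hr hrx => ?_⟩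
  refine eq_of_smul_eq_smul fun y : Ω => ?_
  obtain ⟨r', hr'⟩ := exists_smul_eq R x y
  have hr'' : (r' : G) • x = y := hr'
  rw [one_smul, ← hr'', ← mul_smul, hcomm r hr r' r'.2, mul_smul, hrx]

theorem regular_of_sharp [FaithfulSMul G Ω] (h2 : IsMultiplyPretransitive G Ω 2)
    (hsharp : ∀ a b : Ω, a ≠ b → pairStab G a b = ⊥) {a b : Ω} (hab : a ≠ b) : HasRegularNormal G Ω := by
  set ψ := MulAction.toPermHom G Ω
  let e : G ≃* ψ.range := MonoidHom.ofInjective MulAction.toPerm_injective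
  have hsmul : ∀ (g : G) (c : Ω), e g • c = g • c := fun _ _ => rfl
  have hP : IsMultiplyPretransitive ψ.range Ω 2 := by
    refine ⟨fun x y => ?_⟩
    obtain ⟨g, hg⟩ := h2.exists_smul_eq x y
    exact ⟨e g, Function.Embedding.ext fun j => DFunLike.congr_fun hg j⟩
  have hPs : ∀ x : Fin 2 ↪ Ω, stabilizer ψ.range x = ⊥ := fun x => by
    rw [Subgroup.eq_bot_iff_forall]
    intro p hp
    obtain ⟨g, rfl⟩ := e.surjective p
    have hg : g ∈ pairStab G (x 0) (x 1) := mem_pairStab.2 ⟨DFunLike.congr_fun hp 0, DFunLike.congr_fun hp 1⟩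
    rw [hsharp _ _ (x.injective.ne (by decide)), Subgroup.mem_bot] at hg
    rw [hg, map_one]
  obtain ⟨N, p, j, -, -, -, -, hNn, -, -, hNt, hfree, -, -⟩ :=
    Cfsg.Lib.PermGroups.sharp_two_kernel hP hPs (Fintype.one_lt_card_iff.2 ⟨a, b, hab⟩)
  refine ⟨N.comap e.toMonoidHom, hNn.comap _, fun x y => ?_, fun x r hr hrx => ?_⟩
  · obtain ⟨⟨n, hn⟩, hnx⟩ := hNt.exists_smul_eq x y
    refine ⟨e.symm n, by rw [Subgroup.mem_comap]; exact (e.apply_symm_apply n).symm ▸ hn, ?_⟩
    rw [← hsmul, e.apply_symm_apply]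
    exact hnx
  · have h : (⟨e r, hr⟩ : N) ∈ stabilizer N x := (hsmul r x).trans hrx
    rw [hfree, Subgroup.mem_bot] at h
    exact e.map_eq_one_iff.1 (congrArg Subtype.val h)

namespace Hyp

variable (H : Hyp G Ω i)
include H

theorem even_sub : Even (Fintype.card Ω - i) := by
  obtain ⟨t, ht, ht1⟩ := H.exists_involution
  rw [← H.card_cent t ht ht1, Nat.add_sub_cancel, even_iff_two_dvd,
    ← orderOf_eq_prime (p := 2) (by rw [pow_two, ht]) ht1]
  exact Subgroup.orderOf_dvd_natCard _ (Subgroup.mem_centralizer_singleton_iff.2 rfl)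

theorem no_pair_invol (hi : i ≤ 1) {a b : Ω} (hab : a ≠ b) {v : G} (hv : v * v = 1) (ha : v • a = a)
    (hb : v • b = b) : v = 1 := by
  by_contra hv1
  have h := H.fix v hv hv1
  haveI : Nontrivial {x : Ω // v • x = x} := ⟨⟨⟨a, ha⟩, ⟨b, hb⟩, fun e => hab (congrArg Subtype.val e)⟩⟩
  have := Finite.one_lt_card (α := {x : Ω // v • x = x})
  rw [nFix] at h
  omega

theorem fixed_unique (hi : i ≤ 1) {v : G} (hv : v * v = 1) (hv1 : v ≠ 1) {x y : Ω} (hx : v • x = x) (hy : v • y = y) :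
    x = y := by
  by_contra h
  exact hv1 (H.no_pair_invol hi h hv hx hy)

theorem pair_fix_two (hi : i ≤ 1) (hreg : ¬ HasRegularNormal G Ω) {a b c : Ω} (hab : a ≠ b) (hca : c ≠ a)
    (hcb : c ≠ b) {d : G} (ha : d • a = a) (hb : d • b = b) (hc : d • c = c) : d = 1 := by
  haveI := H.faith
  by_contra hd1
  set Φ : Set Ω := {x | d • x = x} with hΦ
  have hne : ∀ {x y : Ω}, d • x = x → d • y = y → x ≠ y → ∀ {u : G}, u • x = y → u • y = x → u * d * u = d⁻¹ :=
    fun hx hy hxy u hux huy => H.inv_conj hxy hux huy (mem_pairStab.2 ⟨hx, hy⟩)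
  have hdd : d * d ≠ 1 := fun e => hd1 (H.no_pair_invol hi hab e ha hb)
  -- the centraliser of `d` has odd order
  have hodd : ∀ v : G, v * v = 1 → Commute v d → v = 1 := by
    intro v hv hvd
    by_contra hv1
    have hmove : ∀ x : Ω, d • x = x → v • x = x := fun x hx => by
      by_contra hvx
      have hvx' : d • v • x = v • x := by rw [← mul_smul, ← hvd.eq, mul_smul, hx]
      have h := hne hx hvx' (Ne.symm hvx) rfl (by rw [← mul_smul, hv, one_smul])
      rw [hvd.eq, mul_assoc, hv, mul_one] at h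
      exact hdd (mul_eq_one_iff_eq_inv.2 h)
    exact hab (H.fixed_unique hi hv hv1 (hmove a ha) (hmove b hb))
  set C := Subgroup.centralizer ({d} : Set G) with hC
  have htrans : ∀ x y : Ω, d • x = x → d • y = y → ∃ g : G, Commute g d ∧ g • x = y := by
    intro x y hx hy
    rcases eq_or_ne x y with rfl | hxy
    · exact ⟨1, Commute.one_left d, one_smul G x⟩
    obtain ⟨z, hz, hzx, hzy⟩ : ∃ z : Ω, d • z = z ∧ z ≠ x ∧ z ≠ y := by
      by_cases e1 : a ≠ x ∧ a ≠ y
      · exact ⟨a, ha, e1.1, e1.2⟩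
      by_cases e2 : b ≠ x ∧ b ≠ y
      · exact ⟨b, hb, e2.1, e2.2⟩
      refine ⟨c, hc, fun e => ?_, fun e => ?_⟩ <;> grind
    obtain ⟨u, hux, huz⟩ := H.exists_swap x z hzx.symm
    obtain ⟨u', huz', huy⟩ := H.exists_swap z y hzy
    refine ⟨u' * u, ?_, by rw [mul_smul, hux, huz']⟩
    have h1 := hne hx hz hzx.symm hux huz
    have h2 := hne hz hy hzy huz' huy
    have hu := H.swap_sq u x z hzx.symm hux huz
    have hu' := H.swap_sq u' z y hzy huz' huy
    have h2' : u' * d⁻¹ = d * u' := by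
      calc u' * d⁻¹ = u' * (u' * d * u') := by rw [h2]
        _ = d * u' := by rw [← mul_assoc, ← mul_assoc, hu', one_mul]
    show u' * u * d = d * (u' * u)
    calc u' * u * d = u' * (u * d * u) * u := by
          simp only [mul_assoc]; rw [hu, mul_one]
      _ = u' * d⁻¹ * u := by rw [h1]
      _ = d * (u' * u) := by rw [h2', mul_assoc]
  have hCodd : Odd (Nat.card C) := by
    rw [← Nat.not_even_iff_odd, even_iff_two_dvd]
    intro h2
    haveI := Fact.mk Nat.prime_two
    obtain ⟨v, hv⟩ := exists_prime_orderOf_dvd_card' (G := C) 2 h2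
    have hv2 := pow_orderOf_eq_one v
    rw [hv, pow_two] at hv2
    have := hodd v (congrArg Subtype.val hv2) (Subgroup.mem_centralizer_singleton_iff.1 v.2)
    rw [show v = 1 from Subtype.ext this, orderOf_one] at hv
    omega
  -- so the number of fixed points of `d` is odd
  have hfodd : Odd (Nat.card Φ) := by
    refine hCodd.of_dvd_nat ?_
    have horb : MulAction.orbit C a = Φ := by
      ext y
      constructor
      · rintro ⟨g, rfl⟩
        show d • (g : G) • a = (g : G) • a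
        rw [← mul_smul, ← Subgroup.mem_centralizer_singleton_iff.1 g.2, mul_smul, ha]
      · intro hy
        obtain ⟨g, hg, hga⟩ := htrans a y ha hy
        exact ⟨⟨g, Subgroup.mem_centralizer_singleton_iff.2 hg.eq⟩, hga⟩
    rw [← horb, Nat.card_coe_set_eq, ← index_stabilizer]
    exact Subgroup.index_dvd_card _
  -- an involution inverting `d` and fixing a point of it
  obtain ⟨u, hua, hub⟩ := H.exists_swap a b hab
  have hu2 := H.swap_sq u a b hab hua hub
  have hu1 := H.swap_ne hab hua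
  have hud := hne ha hb hab hua hub
  obtain ⟨e, hde, hue⟩ : ∃ e : Ω, d • e = e ∧ u • e = e := by
    by_contra! hno
    have hperm : ∀ x : Φ, u • (x : Ω) ∈ Φ := fun x => by
      show d • u • (x : Ω) = u • (x : Ω)
      have h : d * u = u * d⁻¹ := by
        calc d * u = u * (u * d * u) := by rw [← mul_assoc, ← mul_assoc, hu2, one_mul]
          _ = u * d⁻¹ := by rw [hud]
      rw [← mul_smul, h, mul_smul, inv_smul_eq_iff.2 x.2.symm]
    let σ : Equiv.Perm Φ := Function.Involutive.toPerm (fun x => ⟨u • (x : Ω), hperm x⟩)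
      fun x => Subtype.ext (by show u • u • (x : Ω) = x; rw [← mul_smul, hu2, one_smul])
    haveI := Fact.mk Nat.prime_two
    have hσ : σ ^ (2 ^ 1) = 1 := by
      refine Equiv.ext fun x => Subtype.ext ?_
      show u • u • (x : Ω) = x
      rw [← mul_smul, hu2, one_smul]
    obtain ⟨x, hx⟩ := Equiv.Perm.exists_fixed_point_of_prime (p := 2) (n := 1) (α := Φ)
      (by rw [← Nat.card_eq_fintype_card]; intro h; exact Nat.not_even_iff_odd.2 hfodd (even_iff_two_dvd.2 h)) hσ
    exact hno x x.2 (congrArg Subtype.val hx)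
  have hi1 : i = 1 := by
    have h := H.fix u hu2 hu1
    haveI : Nonempty {x : Ω // u • x = x} := ⟨⟨e, hue⟩⟩
    have := Nat.card_pos (α := {x : Ω // u • x = x})
    rw [nFix] at h
    omega
  -- moved to fix `a`
  obtain ⟨g, hgd, hge⟩ := htrans e a hde ha
  set v := g * u * g⁻¹ with hv
  have hv2 : v * v = 1 := by rw [hv, show g * u * g⁻¹ * (g * u * g⁻¹) = g * (u * u) * g⁻¹ by group, hu2]; group
  have hv1 : v ≠ 1 := fun h => hu1 (by rwa [hv, mul_inv_eq_one, mul_eq_left] at h)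
  have hva : v • a = a := by rw [hv, mul_smul, mul_smul, inv_smul_eq_iff.2 hge.symm, hue, hge]
  have hvd : v * d * v = d⁻¹ := by
    rw [hv]
    calc g * u * g⁻¹ * d * (g * u * g⁻¹) = g * u * (g⁻¹ * d * g) * u * g⁻¹ := by simp only [mul_assoc]
      _ = g * (u * d * u) * g⁻¹ := by rw [mul_assoc g⁻¹, ← hgd.eq, inv_mul_cancel_left]; simp only [mul_assoc]
      _ = d⁻¹ := by rw [hud, hgd.inv_right.eq, mul_inv_cancel_right]
  -- every involution fixing `a` inverts `d`
  set Cv := Subgroup.centralizer ({v} : Set G) with hCv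
  have hCva : ∀ x ∈ Cv, x • a = a := fun x hx => H.fixed_unique hi hv2 hv1
    (by rw [← mul_smul, ← Subgroup.mem_centralizer_singleton_iff.1 hx, mul_smul, hva]) hva
  have hreg' : ∀ x : Ω, x ≠ a → ∃ y ∈ Cv, y • b = x := by
    intro x hx
    have hmap : ∀ y : Cv, (y : G) • b ≠ a := fun y h => hab
      (MulAction.injective (y : G) ((hCva y y.2).trans h.symm))
    have hbij : Function.Bijective (fun y : Cv => (⟨(y : G) • b, hmap y⟩ : {z : Ω // z ≠ a})) := by
      rw [Nat.bijective_iff_injective_and_card]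
      refine ⟨fun y y' h => ?_, ?_⟩
      · have h' : (y : G) • b = (y' : G) • b := congrArg Subtype.val h
        by_contra hne'
        have hz1 : (y' : G)⁻¹ * (y : G) ≠ 1 := fun e => hne' (Subtype.ext (inv_mul_eq_one.1 e).symm)
        have hzb : ((y' : G)⁻¹ * (y : G)) • b = b := by rw [mul_smul, h', inv_smul_smul]
        have hza : ((y' : G)⁻¹ * (y : G)) • a = a := hCva _ (Cv.mul_mem (Cv.inv_mem y'.2) y.2)
        have hfix := H.cent v hv2 hv1 _ (Subgroup.mem_centralizer_singleton_iff.1 (Cv.mul_mem (Cv.inv_mem y'.2) y.2)) hz1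
        haveI : Nontrivial {z : Ω // ((y' : G)⁻¹ * (y : G)) • z = z} :=
          ⟨⟨⟨a, hza⟩, ⟨b, hzb⟩, fun e => hab (congrArg Subtype.val e)⟩⟩
        have := Finite.one_lt_card (α := {z : Ω // ((y' : G)⁻¹ * (y : G)) • z = z})
        rw [nFix] at hfix
        omega
      · have h := H.card_cent v hv2 hv1
        rw [← hCv] at h
        rw [Nat.card_eq_fintype_card (α := {z : Ω // z ≠ a}), Fintype.card_subtype_compl, Fintype.card_subtype_eq]
        omega
    obtain ⟨y, hy⟩ := hbij.2 ⟨x, hx⟩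
    exact ⟨y, y.2, congrArg Subtype.val hy⟩
  have hall : ∀ w : G, w * w = 1 → w ≠ 1 → w • a = a → w * d * w = d⁻¹ := by
    intro w hw hw1 hwa
    obtain ⟨h, rfl⟩ := isConj_iff.1 (H.conj v w hv2 hv1 hw hw1)
    have hha : h • a = a := H.fixed_unique hi hw hw1
      (by rw [mul_smul, mul_smul, inv_smul_smul, hva]) hwa
    have hhb : h⁻¹ • b ≠ a := fun e => hab (hha.symm.trans (by rw [← e, smul_inv_smul]))
    obtain ⟨y, hy, hyb⟩ := hreg' _ hhb
    have hd' : h * y ∈ pairStab G a b := mem_pairStab.2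
      ⟨by rw [mul_smul, hCva y hy, hha], by rw [mul_smul, hyb, smul_inv_smul]⟩
    have hcomm := H.pair_comm hab hd' (mem_pairStab.2 ⟨ha, hb⟩ : d ∈ _)
    have hyv : y * v * y⁻¹ = v := by rw [Subgroup.mem_centralizer_singleton_iff.1 hy, mul_inv_cancel_right]
    calc h * v * h⁻¹ * d * (h * v * h⁻¹) = h * (y * v * y⁻¹) * h⁻¹ * d * (h * (y * v * y⁻¹) * h⁻¹) := by rw [hyv]
      _ = (h * y) * v * ((h * y)⁻¹ * (d * (h * y))) * v * (h * y)⁻¹ := by group
      _ = (h * y) * (v * d * v) * (h * y)⁻¹ := by rw [← hcomm, inv_mul_cancel_left]; simp only [mul_assoc]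
      _ = d⁻¹ := by rw [hvd, (Commute.inv_right (hcomm : Commute (h * y) d)).eq, mul_inv_cancel_right]
  -- so there is no four group
  have hrank : ∀ E : Subgroup G, ¬ IsKleinFour E := by
    intro E hE
    haveI := hE
    obtain ⟨x, y, hx1, hy1, hxy⟩ : ∃ x y : E, x ≠ 1 ∧ y ≠ 1 ∧ x ≠ y := by
      have h4 : Nat.card E = 4 := IsKleinFour.card_four
      letI := Fintype.ofFinite E
      rw [Nat.card_eq_fintype_card] at h4
      have h3 : (Finset.univ.erase (1 : E)).card = 3 := by rw [Finset.card_erase_of_mem (Finset.mem_univ _)]; simp [h4]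
      obtain ⟨x, y, z, hxy, -, -, e⟩ := Finset.card_eq_three.1 h3
      exact ⟨x, y, (Finset.mem_erase.1 (by rw [e]; simp : x ∈ Finset.univ.erase 1)).1,
        (Finset.mem_erase.1 (by rw [e]; simp : y ∈ Finset.univ.erase 1)).1, hxy⟩
    have hX2 : (x : G) * x = 1 := congrArg Subtype.val (IsKleinFour.mul_self x)
    have hY2 : (y : G) * y = 1 := congrArg Subtype.val (IsKleinFour.mul_self y)
    have hX1 : (x : G) ≠ 1 := fun e => hx1 (Subtype.ext e)
    have hY1 : (y : G) ≠ 1 := fun e => hy1 (Subtype.ext e)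
    have hXY : (x : G) * y = y * x := congrArg Subtype.val (IsKleinFour.isMulCommutative.is_comm.comm x y)
    obtain ⟨p, hp⟩ : ∃ p, (x : G) • p = p := by
      have h := H.fix _ hX2 hX1
      have hpos : 0 < Nat.card {z : Ω // (x : G) • z = z} := by rw [nFix] at h; omega
      obtain ⟨⟨p, hp⟩⟩ := (Nat.card_pos_iff.1 hpos).1
      exact ⟨p, hp⟩
    have hpy : (y : G) • p = p := H.fixed_unique hi hX2 hX1 (by rw [← mul_smul, hXY, mul_smul, hp]) hp
    haveI := H.two
    haveI := isPretransitive_of_is_two_pretransitive (G := G) (α := Ω)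
    obtain ⟨m, hm⟩ := exists_smul_eq G p a
    have hinv : ∀ w : G, w * w = 1 → w ≠ 1 → w • p = p → (m * w * m⁻¹) * d * (m * w * m⁻¹) = d⁻¹ := fun w hw hw1 hwp =>
      hall _ (by rw [show m * w * m⁻¹ * (m * w * m⁻¹) = m * (w * w) * m⁻¹ by group, hw]; group)
        (fun e => hw1 (by rwa [mul_inv_eq_one, mul_eq_left] at e))
        (by rw [mul_smul, mul_smul, inv_smul_eq_iff.2 hm.symm, hwp, hm])
    have hXYne : (x : G) * y ≠ 1 := fun e => hxy (Subtype.ext ((eq_inv_of_mul_eq_one_left e).trans (inv_eq_of_mul_eq_one_right hY2)))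
    have hXY2 : (x : G) * y * (x * y) = 1 := by
      calc (x : G) * y * (x * y) = x * y * (y * x) := by rw [← hXY]
        _ = 1 := by rw [mul_assoc, ← mul_assoc (y : G), hY2, one_mul, hX2]
    have h3 := hinv _ hXY2 hXYne (by rw [mul_smul, hpy, hp])
    have h1 := hinv _ hX2 hX1 hp
    have h2 := hinv _ hY2 hY1 hpy
    obtain ⟨X', hX'⟩ : ∃ X', X' = m * (x : G) * m⁻¹ := ⟨_, rfl⟩
    obtain ⟨Y', hY'⟩ : ∃ Y', Y' = m * (y : G) * m⁻¹ := ⟨_, rfl⟩
    rw [← hX'] at h1
    rw [← hY'] at h2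
    have hY'2 : Y' * Y' = 1 := by rw [hY', show m * (y : G) * m⁻¹ * (m * y * m⁻¹) = m * ((y : G) * y) * m⁻¹ by group, hY2]; group
    have hX'2 : X' * X' = 1 := by rw [hX', show m * (x : G) * m⁻¹ * (m * x * m⁻¹) = m * ((x : G) * x) * m⁻¹ by group, hX2]; group
    rw [show m * ((x : G) * y) * m⁻¹ = X' * Y' by rw [hX', hY']; group] at h3
    have h2i : Y' * d⁻¹ * Y' = d := by
      calc Y' * d⁻¹ * Y' = Y' * (Y' * d * Y') * Y' := by rw [h2]
        _ = d := by rw [← mul_assoc, ← mul_assoc, hY'2, one_mul, mul_assoc, hY'2, mul_one]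
    have hYX : X' * Y' = Y' * X' := by
      rw [hX', hY']
      calc m * (x : G) * m⁻¹ * (m * y * m⁻¹) = m * ((x : G) * y) * m⁻¹ := by group
        _ = m * ((y : G) * x) * m⁻¹ := by rw [hXY]
        _ = _ := by group
    refine hdd (mul_eq_one_iff_eq_inv.2 ?_)
    rw [← h3]
    conv_rhs => rw [hYX]
    calc d = Y' * (X' * d * X') * Y' := by rw [h1, h2i]
      _ = Y' * X' * d * (X' * Y') := by simp only [mul_assoc]
      _ = Y' * X' * d * (Y' * X') := by rw [hYX]
  have heven : Even (Nat.card G) := by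
    rw [even_iff_two_dvd, ← orderOf_eq_prime (p := 2) (by rw [pow_two, hu2]) hu1]
    exact orderOf_dvd_natCard u
  obtain ⟨z, hz, N, hNn, hNodd, hzN⟩ := Cfsg.Agent.S0225.result heven hrank
  refine hreg (regular_of_solvable_normal H.two hNn ?_ (Cfsg.Agent.S0205.result hNodd))
  intro hbot
  have hz2 : z * z = 1 := by have := pow_orderOf_eq_one z; rwa [hz, pow_two] at this
  have hz1 : z ≠ 1 := fun e => by rw [e, orderOf_one] at hz; omega
  have htop : Subgroup.centralizer ({z} : Set G) = ⊤ := by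
    refine (Subgroup.eq_top_iff' _).2 fun g => Subgroup.mem_centralizer_singleton_iff.2 ?_
    have h := hzN g
    rw [hbot, Subgroup.mem_bot, mul_inv_eq_one, mul_inv_eq_iff_eq_mul] at h
    exact h.symm
  have hc := H.card_cent z hz2 hz1
  rw [htop, Subgroup.card_top, card_group H.two hab] at hc
  have h1 := Fintype.one_lt_card_iff.2 ⟨a, b, hab⟩
  have hD : 0 < Nat.card (pairStab G a b) := Nat.card_pos
  nlinarith [Nat.sub_add_cancel (Nat.le_mul_self (Fintype.card Ω)),
    Nat.le_mul_of_pos_right (Fintype.card Ω * Fintype.card Ω - Fintype.card Ω) hD]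

theorem conclude :
    ((∃ (F : Type) (_ : Field F) (_ : Fintype F), Nonempty (G ≃* Matrix.ProjectiveSpecialLinearGroup (Fin 2) F)) ∨
      Cfsg.Lie.IsoSuzuki G) ∨ HasRegularNormal G Ω := by
  haveI := H.faith
  by_cases hreg : HasRegularNormal G Ω
  · exact Or.inr hreg
  left
  obtain ⟨a₀, b₀, hab₀⟩ := H.two_points
  have hi : i ≤ 2 := by
    by_contra h
    have := H.eq_two (by omega)
    omega
  have hthree : ∀ (d : G) (a b c : Ω), a ≠ b → b ≠ c → a ≠ c → d • a = a → d • b = b → d • c = c → d = 1 := by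
    intro d a b c hab hbc hac ha hb hc
    rcases Nat.lt_or_ge i 2 with hi1 | hi2
    · exact H.pair_fix_two (by omega) hreg hab hac.symm hbc.symm ha hb hc
    by_contra hd1
    obtain ⟨v, hv, hv1, hva, hvb⟩ : ∃ v : G, v * v = 1 ∧ v ≠ 1 ∧ v • a = a ∧ v • b = b := by
      have h := H.sqOne_eq hi2 hab
      haveI : Nontrivial {g : G // g • a = a ∧ g • b = b ∧ g * g = 1} :=
        Finite.one_lt_card_iff_nontrivial.1 (by rw [sqOne] at h; omega)
      obtain ⟨v, hv⟩ := exists_ne (⟨1, one_smul G a, one_smul G b, one_mul 1⟩ : {g : G // g • a = a ∧ g • b = b ∧ g * g = 1})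
      exact ⟨v, v.2.2.2, fun e => hv (Subtype.ext e), v.2.1, v.2.2.1⟩
    have hfix := H.cent v hv hv1 d (H.pair_comm hab (mem_pairStab.2 ⟨ha, hb⟩) (mem_pairStab.2 ⟨hva, hvb⟩)) hd1
    have h3 : ({a, b, c} : Finset Ω) ⊆ Finset.univ.filter fun x : Ω => d • x = x := by
      intro x hx
      simp only [Finset.mem_insert, Finset.mem_singleton] at hx
      refine Finset.mem_filter.2 ⟨Finset.mem_univ _, ?_⟩
      rcases hx with rfl | rfl | rfl <;> assumption
    have := Finset.card_le_card h3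
    rw [Finset.card_eq_three.2 ⟨a, b, c, hab, hac, hbc, rfl⟩, card_filter_univ] at this
    rw [nFix] at hfix
    omega
  have hsome : ∃ g : G, g ≠ 1 ∧ ∃ a b : Ω, a ≠ b ∧ g • a = a ∧ g • b = b := by
    by_contra! h
    refine hreg (regular_of_sharp H.two (fun a b hab => (Subgroup.eq_bot_iff_forall _).2 fun g hg => ?_) hab₀)
    by_contra hg1
    exact h g hg1 a b hab (mem_pairStab.1 hg).1 (mem_pairStab.1 hg).2
  have hZ : Cfsg.IsZassenhausGroup G Ω := by
    refine ⟨H.faith, H.two, hthree, hsome, fun N hN hNt => ?_⟩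
    by_contra! h
    refine hreg ⟨N, hN, fun x y => (hNt.exists_smul_eq x y).elim fun r hr => ⟨r, r.2, hr⟩, fun x r hr hrx => ?_⟩
    have hm : (⟨r, hr⟩ : N) ∈ stabilizer N x := hrx
    rw [h x, Subgroup.mem_bot] at hm
    exact congrArg Subtype.val hm
  haveI : IsSimpleGroup G := by
    obtain ⟨j, hj⟩ := H.even_sub
    obtain ⟨u₀, hu₀a, hu₀b⟩ := H.exists_swap a₀ b₀ hab₀
    rcases Nat.even_or_odd (Fintype.card Ω) with hev | hodd
    swap
    · exact Cfsg.Lib.RankOne.odd_degree_simple hZ hodd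
    haveI : Nontrivial G := ⟨⟨u₀, 1, H.swap_ne hab₀ hu₀a⟩⟩
    refine { eq_bot_or_eq_top_of_normal := fun N hN => ?_ }
    by_cases hne : N = ⊥
    · exact Or.inl hne
    refine Or.inr ((Subgroup.eq_top_iff' N).2 fun g => ?_)
    haveI := hN
    haveI := Cfsg.Lib.RankOne.normal_pretransitive H.two hN hne
    have hNeven : 2 ∣ Nat.card N := (even_iff_two_dvd.1 hev).trans (by
      rw [← Nat.card_eq_fintype_card, ← MulAction.index_stabilizer_of_transitive N a₀]
      exact Subgroup.index_dvd_card _)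
    haveI := Fact.mk Nat.prime_two
    obtain ⟨w, hw⟩ := exists_prime_orderOf_dvd_card' (G := N) 2 hNeven
    have hw2 : (w : G) * w = 1 := by
      have := pow_orderOf_eq_one w
      rw [hw, pow_two] at this
      exact congrArg Subtype.val this
    have hw1 : (w : G) ≠ 1 := fun e => by rw [show w = 1 from Subtype.ext e, orderOf_one] at hw; omega
    have hinv : ∀ v : G, v * v = 1 → v ∈ N := fun v hv => by
      by_cases hv1 : v = 1
      · exact hv1 ▸ N.one_mem
      obtain ⟨m, rfl⟩ := isConj_iff.1 (H.conj w v hw2 hw1 hv hv1)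
      exact hN.conj_mem _ w.2 m
    have hu₀N := hinv u₀ (H.swap_sq u₀ a₀ b₀ hab₀ hu₀a hu₀b)
    have hD : pairStab G a₀ b₀ ≤ N := fun d hd => by
      obtain ⟨da, db⟩ := mem_pairStab.1 hd
      have h := hinv (u₀ * d) (H.swap_sq _ a₀ b₀ hab₀ (by rw [mul_smul, da, hu₀a]) (by rw [mul_smul, db, hu₀b]))
      exact (N.mul_mem_cancel_left hu₀N).1 h
    have hNZ := Cfsg.Lib.RankOne.normal_zassenhaus hZ hN hne
    obtain ⟨n, hna, hnb⟩ := is_two_pretransitive_iff.1 hNZ.2.1 hab₀
      (fun e => hab₀ (MulAction.injective g e) : g • a₀ ≠ g • b₀)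
    have hm : (n : G)⁻¹ * g ∈ N := hD (mem_pairStab.2
      ⟨by rw [mul_smul, inv_smul_eq_iff]; exact hna.symm, by rw [mul_smul, inv_smul_eq_iff]; exact hnb.symm⟩)
    exact (N.mul_mem_cancel_left (inv_mem n.2)).1 hm
  exact Cfsg.Lib.SuzukiUnique.zassenhaus_iso hZ

end Hyp

end Cfsg.Lib.ConstFixity
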