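import Cfsg.Agent.ConstFixity.Count

/-!
Constant fixity at least two forces two fixed points.
-/

set_option autoImplicit false
set_option linter.unusedSectionVars false
set_option linter.style.haveILetI false

namespace Cfsg.Lib.ConstFixity

open MulAction
open scoped _root_.Classical

variable {G : Type*} {Ω : Type*} [Group G] [MulAction G Ω] [Finite G] [Fintype Ω] {i : ℕ}

/-- The number of elements of square one fixing two points. -/
noncomputable def sqOne (G : Type*) [Group G] [MulAction G Ω] (x y : Ω) : ℕ :=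
  Nat.card {g : G // g • x = x ∧ g • y = y ∧ g * g = 1}

theorem mem_pairStab {g : G} {a b : Ω} : g ∈ pairStab G a b ↔ g • a = a ∧ g • b = b := Subgroup.mem_inf

namespace Hyp

variable (H : Hyp G Ω i)
include H

theorem swap_ne {a b : Ω} (hab : a ≠ b) {u : G} (hu : u • a = b) : u ≠ 1 := fun e => hab (by rw [← hu, e, one_smul])

theorem inv_conj {a b : Ω} (hab : a ≠ b) {u : G} (hua : u • a = b) (hub : u • b = a) {d : G}
    (hd : d ∈ pairStab G a b) : u * d * u = d⁻¹ := by
  obtain ⟨da, db⟩ := mem_pairStab.1 hd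
  have h := H.swap_sq (u * d) a b hab (by rw [mul_smul, da, hua]) (by rw [mul_smul, db, hub])
  exact eq_inv_of_mul_eq_one_left (by rw [← h]; simp only [mul_assoc])

theorem pair_comm {a b : Ω} (hab : a ≠ b) {d e : G} (hd : d ∈ pairStab G a b) (he : e ∈ pairStab G a b) :
    d * e = e * d := by
  obtain ⟨u, hua, hub⟩ := H.exists_swap a b hab
  have huu := H.swap_sq u a b hab hua hub
  have h : d⁻¹ * e⁻¹ = (d * e)⁻¹ := by
    rw [← H.inv_conj hab hua hub hd, ← H.inv_conj hab hua hub he, ← H.inv_conj hab hua hub (mul_mem hd he)]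
    calc u * d * u * (u * e * u) = u * d * (u * u) * e * u := by simp only [mul_assoc]
      _ = u * (d * e) * u := by rw [huu, mul_one]; simp only [mul_assoc]
  have h2 := congrArg (·⁻¹) h
  simp only [mul_inv_rev, inv_inv] at h2
  exact h2.symm

theorem exists_involution : ∃ t : G, t * t = 1 ∧ t ≠ 1 := by
  obtain ⟨a, b, hab⟩ := H.two_points
  obtain ⟨u, hua, hub⟩ := H.exists_swap a b hab
  exact ⟨u, H.swap_sq u a b hab hua hub, H.swap_ne hab hua⟩

theorem sqOne_const {a b x y : Ω} (hab : a ≠ b) (hxy : x ≠ y) : sqOne G x y = sqOne G a b := by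
  obtain ⟨g, gx, gy⟩ := is_two_pretransitive_iff.1 H.two hxy hab
  refine Nat.card_congr
    { toFun := fun h => ⟨g * (h : G) * g⁻¹, by rw [mul_smul, mul_smul, inv_smul_eq_iff.2 gx.symm, h.2.1, gx],
        by rw [mul_smul, mul_smul, inv_smul_eq_iff.2 gy.symm, h.2.2.1, gy],
        by rw [show g * (h : G) * g⁻¹ * (g * (h : G) * g⁻¹) = g * ((h : G) * h) * g⁻¹ by group, h.2.2.2]; group⟩
      invFun := fun h => ⟨g⁻¹ * (h : G) * g, by rw [mul_smul, mul_smul, gx, h.2.1, inv_smul_eq_iff.2 gx.symm],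
        by rw [mul_smul, mul_smul, gy, h.2.2.1, inv_smul_eq_iff.2 gy.symm],
        by rw [show g⁻¹ * (h : G) * g * (g⁻¹ * (h : G) * g) = g⁻¹ * ((h : G) * h) * g by group, h.2.2.2]; group⟩
      left_inv := fun h => Subtype.ext (show g⁻¹ * (g * (h : G) * g⁻¹) * g = h by group)
      right_inv := fun h => Subtype.ext (show g * (g⁻¹ * (h : G) * g) * g⁻¹ = h by group) }

/-- Every swap of two points fixed by an involution centralises it. -/
theorem swap_comm {t : G} {x y : Ω} (hxy : x ≠ y) (ht : t * t = 1) (hx : t • x = x) (hy : t • y = y) {u : G}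
    (hux : u • x = y) (huy : u • y = x) : Commute u t := by
  have huu := H.swap_sq u x y hxy hux huy
  have h := H.inv_conj hxy hux huy (mem_pairStab.2 ⟨hx, hy⟩ : t ∈ _)
  rw [inv_eq_of_mul_eq_one_right ht] at h
  calc u * t = u * t * (u * u) := by rw [huu, mul_one]
    _ = u * t * u * u := by simp only [mul_assoc]
    _ = t * u := by rw [h]

theorem card_cent_stab {t : G} (ht : t * t = 1) (ht1 : t ≠ 1) {x : Ω} (hx : t • x = x) :
    Nat.card ↥(Subgroup.centralizer ({t} : Set G) ⊓ stabilizer G x) * i =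
      Nat.card (Subgroup.centralizer ({t} : Set G)) := by
  set C := Subgroup.centralizer ({t} : Set G)
  have e : stabilizer C x = (C ⊓ stabilizer G x).subgroupOf C := by
    ext g
    rw [Subgroup.mem_subgroupOf, Subgroup.mem_inf]
    exact ⟨fun h => ⟨g.2, h⟩, fun h => h.2⟩
  have h := (stabilizer C x).card_mul_index
  rw [index_stabilizer] at h
  rw [e, Nat.card_congr (Subgroup.subgroupOfEquivOfLe (inf_le_left : C ⊓ stabilizer G x ≤ C)).toEquiv] at h
  have horb : MulAction.orbit C x = {z : Ω | t • z = z} := by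
    ext z
    constructor
    · rintro ⟨g, rfl⟩
      show t • (g : G) • x = (g : G) • x
      rw [← mul_smul, ← Subgroup.mem_centralizer_singleton_iff.1 g.2, mul_smul, hx]
    · intro hz
      rcases eq_or_ne x z with rfl | hne
      · exact mem_orbit_self x
      obtain ⟨u, hux, huz⟩ := H.exists_swap x z hne
      exact ⟨⟨u, Subgroup.mem_centralizer_singleton_iff.2 (H.swap_comm hne ht hx hz hux huz).eq⟩, hux⟩
  rw [horb, ← Nat.card_coe_set_eq] at h
  rw [← h]
  exact congrArg _ (H.fix t ht ht1).symm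

theorem exists_two_fixed (hi : 2 ≤ i) {t : G} (ht : t * t = 1) (ht1 : t ≠ 1) :
    ∃ a b : Ω, a ≠ b ∧ t • a = a ∧ t • b = b := by
  have h : 1 < Nat.card {x : Ω // t • x = x} := by
    have := H.fix t ht ht1
    rw [nFix] at this
    omega
  haveI := (Finite.one_lt_card_iff_nontrivial).1 h
  obtain ⟨⟨a, ha⟩, ⟨b, hb⟩, hne⟩ := exists_pair_ne {x : Ω // t • x = x}
  exact ⟨a, b, fun e => hne (Subtype.ext e), ha, hb⟩

theorem sqOne_eq (hi : 2 ≤ i) {x y : Ω} (hxy : x ≠ y) : sqOne G x y = i := by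
  obtain ⟨t, ht, ht1⟩ := H.exists_involution
  obtain ⟨a, b, hab, ha, hb⟩ := H.exists_two_fixed hi ht ht1
  rw [H.sqOne_const hab hxy]
  set C := Subgroup.centralizer ({t} : Set G) with hC
  letI := Fintype.ofFinite C
  have hn := H.card_cent t ht ht1
  rw [← hC] at hn
  have hoff : ∀ z : Ω, t • z ≠ z → (Finset.univ.filter fun g : C => (g : G) • z = z).card = sqOne G a b := by
    intro z hz
    rw [card_filter_univ, ← H.sqOne_const hab (Ne.symm hz)]
    refine Nat.card_congr
      { toFun := fun g => ⟨((g : C) : G), g.2, ?_, ?_⟩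
        invFun := fun g => ⟨⟨(g : G), Subgroup.mem_centralizer_singleton_iff.2 ?_⟩, g.2.1⟩
        left_inv := fun g => rfl
        right_inv := fun g => rfl }
    · rw [← mul_smul, Subgroup.mem_centralizer_singleton_iff.1 (g : C).2, mul_smul, g.2]
    · have h := H.inv_conj (Ne.symm hz) (rfl : t • z = t • z) (by rw [← mul_smul, ht, one_smul])
        (mem_pairStab.2 ⟨g.2, by rw [← mul_smul, Subgroup.mem_centralizer_singleton_iff.1 (g : C).2, mul_smul, g.2]⟩ :
          ((g : C) : G) ∈ pairStab G z (t • z))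
      rw [← Subgroup.mem_centralizer_singleton_iff.1 (g : C).2, mul_assoc, ht, mul_one] at h
      exact mul_eq_one_iff_eq_inv.2 h
    · have h := H.inv_conj (Ne.symm hz) (rfl : t • z = t • z) (by rw [← mul_smul, ht, one_smul])
        (mem_pairStab.2 ⟨g.2.1, g.2.2.1⟩ : (g : G) ∈ pairStab G z (t • z))
      rw [inv_eq_of_mul_eq_one_right g.2.2.2] at h
      calc (g : G) * t = t * (g : G) * t * t := by rw [h]
        _ = t * (g : G) * (t * t) := mul_assoc _ _ _
        _ = t * (g : G) := by rw [ht, mul_one]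
  have hon : ∀ z : Ω, t • z = z → (Finset.univ.filter fun g : C => (g : G) • z = z).card * i = Nat.card C := by
    intro z hz
    rw [card_filter_univ, ← H.card_cent_stab ht ht1 hz]
    refine congrArg (· * i) (Nat.card_congr
      { toFun := fun g => ⟨((g : C) : G), Subgroup.mem_inf.2 ⟨(g : C).2, g.2⟩⟩
        invFun := fun g => ⟨⟨(g : G), (Subgroup.mem_inf.1 g.2).1⟩, (Subgroup.mem_inf.1 g.2).2⟩
        left_inv := fun g => rfl
        right_inv := fun g => rfl })
  have hsum : ∑ g : C, (Finset.univ.filter fun z : Ω => (g : G) • z = z).card =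
      ∑ z : Ω, (Finset.univ.filter fun g : C => (g : G) • z = z).card := by
    simp only [Finset.card_filter]
    exact Finset.sum_comm
  rw [← Finset.add_sum_erase _ _ (Finset.mem_univ (1 : C)), Finset.sum_const_nat (m := i) fun g hg => ?_,
    Finset.card_erase_of_mem (Finset.mem_univ _), Finset.card_univ,
    ← Finset.sum_filter_add_sum_filter_not (Finset.univ : Finset Ω) fun z => t • z = z,
    Finset.sum_const_nat (s := Finset.univ.filter fun z : Ω => ¬ t • z = z) (m := sqOne G a b)
      fun z hz => hoff z (Finset.mem_filter.1 hz).2] at hsum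
  swap
  · rw [card_filter_univ]
    exact H.cent t ht ht1 g (Subgroup.mem_centralizer_singleton_iff.1 g.2)
      fun e => (Finset.mem_erase.1 hg).1 (Subtype.ext e)
  rw [show (Finset.univ.filter fun z : Ω => ((1 : C) : G) • z = z) = Finset.univ from
    Finset.filter_true_of_mem fun z _ => one_smul G z, Finset.card_univ] at hsum
  have hF : (Finset.univ.filter fun z : Ω => t • z = z).card = i :=
    (card_filter_univ _).trans (H.fix t ht ht1)
  have hF' : (Finset.univ.filter fun z : Ω => ¬ t • z = z).card + i = Fintype.card Ω := by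
    conv_lhs => rw [← hF, add_comm]
    exact Finset.card_filter_add_card_filter_not _
  have hsF : i * ∑ z ∈ Finset.univ.filter (fun z : Ω => t • z = z), (Finset.univ.filter fun g : C => (g : G) • z = z).card =
      i * Nat.card C := by
    rw [Finset.mul_sum, Finset.sum_const_nat (m := Nat.card C) fun z hz => by
      rw [mul_comm]; exact hon z (Finset.mem_filter.1 hz).2, hF]
  rw [Nat.eq_of_mul_eq_mul_left (by omega) hsF, Nat.card_eq_fintype_card] at hsum
  rw [Nat.card_eq_fintype_card] at hn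
  set N := Fintype.card C
  have hN : 0 < N := Fintype.card_pos
  rw [show (Finset.univ.filter fun z : Ω => ¬ t • z = z).card = N by omega, ← hn] at hsum
  obtain ⟨N', hN'⟩ : ∃ N', N = N' + 1 := ⟨N - 1, by omega⟩
  rw [hN', Nat.add_sub_cancel] at hsum
  refine (Nat.eq_of_mul_eq_mul_left hN ?_).symm
  rw [hN']
  linarith

/-- The involutions. -/
theorem card_invol [Fintype G] {t : G} (ht : t * t = 1) (ht1 : t ≠ 1) :
    (Finset.univ.filter fun v : G => v * v = 1 ∧ v ≠ 1).card * Nat.card (Subgroup.centralizer ({t} : Set G)) =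
      Nat.card G := by
  rw [← card_class t]
  congr 2
  ext v
  simp only [Finset.mem_filter, Finset.mem_univ, true_and]
  refine ⟨fun h => H.conj t v ht ht1 h.1 h.2, fun h => ?_⟩
  obtain ⟨g, rfl⟩ := isConj_iff.1 h
  exact ⟨by rw [show g * t * g⁻¹ * (g * t * g⁻¹) = g * (t * t) * g⁻¹ by group, ht]; group,
    fun e => ht1 (by rwa [mul_inv_eq_one, mul_eq_left] at e)⟩

theorem invol_mul (hi : 2 ≤ i) [Fintype G] :
    (Finset.univ.filter fun v : G => v * v = 1 ∧ v ≠ 1).card * i =
      Fintype.card Ω * Fintype.card Ω - Fintype.card Ω := by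
  set I := Finset.univ.filter fun v : G => v * v = 1 ∧ v ≠ 1 with hI
  have hmI : ∀ v ∈ I, v * v = 1 ∧ v ≠ 1 := fun v hv => (Finset.mem_filter.1 hv).2
  set P := (I ×ˢ (Finset.univ : Finset Ω).offDiag).filter fun z => z.1 • z.2.1 = z.2.1 ∧ z.1 • z.2.2 = z.2.2 with hP
  have h1 : P.card = I.card * (i * i - i) := by
    refine card_const_fiber P I Prod.fst (fun z hz => (Finset.mem_product.1 (Finset.mem_filter.1 hz).1).1) fun v hv => ?_
    have hc : (Finset.univ.filter fun x : Ω => v • x = x).card = i :=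
      (card_filter_univ _).trans (H.fix v (hmI v hv).1 (hmI v hv).2)
    rw [← hc, ← Finset.offDiag_card]
    refine Finset.card_bij' (fun z _ => z.2) (fun x _ => (v, x)) ?_ ?_ ?_ fun x _ => rfl
    · intro z hz
      obtain ⟨hz1, rfl⟩ := Finset.mem_filter.1 hz
      obtain ⟨hz2, hx, hy⟩ := Finset.mem_filter.1 hz1
      simpa [hx, hy] using (Finset.mem_offDiag.1 (Finset.mem_product.1 hz2).2).2.2
    · intro x hx
      obtain ⟨hx1, hx2, hne⟩ := Finset.mem_offDiag.1 hx
      simp only [Finset.mem_filter, Finset.mem_univ, true_and] at hx1 hx2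
      simp [hP, hv, hx1, hx2, hne]
    · intro z hz
      obtain ⟨-, rfl⟩ := Finset.mem_filter.1 hz
      rfl
  have h2 : P.card = (Fintype.card Ω * Fintype.card Ω - Fintype.card Ω) * (i - 1) := by
    rw [card_const_fiber P (Finset.univ : Finset Ω).offDiag Prod.snd (r := i - 1)
      (fun z hz => (Finset.mem_product.1 (Finset.mem_filter.1 hz).1).2) ?_, Finset.offDiag_card, Finset.card_univ]
    rintro ⟨x, y⟩ hxy
    have hne : x ≠ y := (Finset.mem_offDiag.1 hxy).2.2
    rw [show i - 1 = ((Finset.univ.filter fun g : G => g • x = x ∧ g • y = y ∧ g * g = 1).erase 1).card by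
      rw [Finset.card_erase_of_mem (by simp), card_filter_univ]
      exact congrArg (· - 1) (H.sqOne_eq hi hne).symm]
    refine Finset.card_bij' (fun z _ => z.1) (fun v _ => (v, (x, y))) ?_ ?_ ?_ fun v _ => rfl
    · intro z hz
      simp only [hP, hI, Finset.mem_filter, Finset.mem_product, Finset.mem_univ, true_and, Finset.mem_erase] at hz ⊢
      obtain ⟨⟨⟨⟨hv1, hv2⟩, -⟩, hx, hy⟩, e⟩ := hz
      rw [e] at hx hy
      exact ⟨hv2, hx, hy, hv1⟩
    · intro v hv
      simp only [Finset.mem_filter, Finset.mem_univ, true_and, Finset.mem_erase] at hv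
      simp [hP, hI, hv.1, hv.2.1, hv.2.2.1, hv.2.2.2, hne]
    · intro z hz
      obtain ⟨-, e⟩ := Finset.mem_filter.1 hz
      exact Prod.ext rfl e.symm
  refine Nat.eq_of_mul_eq_mul_right (show 0 < i - 1 by omega) ?_
  rw [← h2, h1, mul_assoc, Nat.mul_sub_one]

/-- The stabiliser of a pair fixes all the points fixed by an involution in it. -/
theorem cent_stab_eq (hi : 2 ≤ i) {t : G} (ht : t * t = 1) (ht1 : t ≠ 1) {a b : Ω} (hab : a ≠ b) (ha : t • a = a)
    (hb : t • b = b) : Subgroup.centralizer ({t} : Set G) ⊓ stabilizer G a = pairStab G a b ∧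
      Nat.card (pairStab G a b) * i = Nat.card (Subgroup.centralizer ({t} : Set G)) := by
  letI := Fintype.ofFinite G
  have hD : pairStab G a b ≤ Subgroup.centralizer ({t} : Set G) ⊓ stabilizer G a := fun d hd =>
    Subgroup.mem_inf.2 ⟨Subgroup.mem_centralizer_singleton_iff.2 (H.pair_comm hab hd (mem_pairStab.2 ⟨ha, hb⟩)),
      (Subgroup.mem_inf.1 hd).1⟩
  have h1 := H.card_cent_stab ht ht1 ha
  have h2 := H.card_invol ht ht1
  have h3 := H.invol_mul hi
  have hpos : 0 < Fintype.card Ω * Fintype.card Ω - Fintype.card Ω := by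
    have := Fintype.one_lt_card_iff.2 ⟨a, b, hab⟩
    exact Nat.sub_pos_of_lt (lt_mul_of_one_lt_left (by omega) this)
  rw [card_group H.two hab, ← h1, ← h3] at h2
  have hk : 0 < (Finset.univ.filter fun v : G => v * v = 1 ∧ v ≠ 1).card :=
    Finset.card_pos.2 ⟨t, by simp [ht, ht1]⟩
  have hcard : Nat.card ↥(Subgroup.centralizer ({t} : Set G) ⊓ stabilizer G a) = Nat.card (pairStab G a b) := by
    refine Nat.eq_of_mul_eq_mul_left (Nat.mul_pos hk (show 0 < i by omega)) ?_
    linarith
  refine ⟨(Subgroup.eq_of_le_of_card_ge hD hcard.le).symm, by rw [← hcard, h1]⟩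

theorem fixes_all (hi : 2 ≤ i) {t : G} (ht : t * t = 1) (ht1 : t ≠ 1) {a b : Ω} (hab : a ≠ b) (ha : t • a = a)
    (hb : t • b = b) {d : G} (hd : d ∈ pairStab G a b) {c : Ω} (hc : t • c = c) : d • c = c := by
  rcases eq_or_ne a c with rfl | hne
  · exact (mem_pairStab.1 hd).1
  have h : d ∈ pairStab G a c := by
    rw [← (H.cent_stab_eq hi ht ht1 hne ha hc).1, (H.cent_stab_eq hi ht ht1 hab ha hb).1]
    exact hd
  exact (mem_pairStab.1 h).2

theorem eq_two (hi : 2 ≤ i) : i = 2 := by
  letI := Fintype.ofFinite G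
  by_contra hne
  obtain ⟨t, ht, ht1⟩ := H.exists_involution
  obtain ⟨a, b, hab, ha, hb⟩ := H.exists_two_fixed hi ht ht1
  obtain ⟨hCa, hcard⟩ := H.cent_stab_eq hi ht ht1 hab ha hb
  -- the elements of the centraliser outside the pair stabiliser invert it
  have hinv : ∀ g : G, Commute g t → g • a ≠ a → g * g = 1 ∧ ∀ d ∈ pairStab G a b, g * d * g = d⁻¹ := by
    intro g hg hga
    have hta : t • g • a = g • a := by rw [← mul_smul, ← hg.eq, mul_smul, ha]
    obtain ⟨hCa', -⟩ := H.cent_stab_eq hi ht ht1 (Ne.symm hga) ha hta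
    obtain ⟨u, hua, hub⟩ := H.exists_swap a (g • a) (Ne.symm hga)
    have hucomm := H.swap_comm (Ne.symm hga) ht ha hta hua hub
    have hm : u⁻¹ * g ∈ pairStab G a (g • a) := by
      rw [← hCa', Subgroup.mem_inf, Subgroup.mem_centralizer_singleton_iff]
      exact ⟨(hucomm.inv_left.mul_left hg).eq, show (u⁻¹ * g) • a = a by rw [mul_smul, inv_smul_eq_iff]; exact hua.symm⟩
    have hgb : g • g • a = a := by
      have h := (mem_pairStab.1 hm).2
      rw [mul_smul, inv_smul_eq_iff] at h
      rw [h, hub]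
    refine ⟨H.swap_sq g a (g • a) (Ne.symm hga) rfl hgb, fun d hd => H.inv_conj (Ne.symm hga) rfl hgb ?_⟩
    rw [← hCa', hCa]
    exact hd
  obtain ⟨c, hc, hca, hcb⟩ : ∃ c : Ω, t • c = c ∧ c ≠ a ∧ c ≠ b := by
    by_contra! h
    have hsub : (Finset.univ.filter fun x : Ω => t • x = x) ⊆ {a, b} := fun x hx => by
      by_cases hxa : x = a
      · simp [hxa]
      · simp [h x (Finset.mem_filter.1 hx).2 hxa]
    have := (Finset.card_le_card hsub).trans Finset.card_le_two
    rw [card_filter_univ] at this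
    have hf := H.fix t ht ht1
    rw [nFix] at hf
    omega
  obtain ⟨u₁, h1a, h1b⟩ := H.exists_swap a b hab
  obtain ⟨u₂, h2a, h2c⟩ := H.exists_swap a c (Ne.symm hca)
  have hc1 := H.swap_comm hab ht ha hb h1a h1b
  have hc2 := H.swap_comm (Ne.symm hca) ht ha hc h2a h2c
  have hmove : (u₁ * u₂) • a ≠ a := fun e => hcb (by
    rw [mul_smul, h2a] at e
    exact MulAction.injective u₁ (e.trans h1b.symm))
  have hsq : ∀ d ∈ pairStab G a b, d * d = 1 := fun d hd => by
    obtain ⟨hw2, hwd⟩ := hinv _ (hc1.mul_left hc2) hmove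
    obtain ⟨h12, h1d⟩ := hinv u₁ hc1 (by rw [h1a]; exact hab.symm)
    obtain ⟨h22, h2d⟩ := hinv u₂ hc2 (by rw [h2a]; exact hca)
    have e : u₁ * u₂ = u₂ * u₁ := by
      calc u₁ * u₂ = u₁ * u₂ * ((u₁ * u₁)) := by rw [h12, mul_one]
        _ = u₁ * u₂ * u₁ * (u₂ * u₂) * u₁ := by rw [h22, mul_one]; simp only [mul_assoc]
        _ = (u₁ * u₂ * (u₁ * u₂)) * (u₂ * u₁) := by simp only [mul_assoc]
        _ = u₂ * u₁ := by rw [hw2, one_mul]
    have h := hwd d hd
    rw [show u₁ * u₂ * d * (u₁ * u₂) = u₁ * u₂ * d * (u₂ * u₁) by rw [← e],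
      show u₁ * u₂ * d * (u₂ * u₁) = u₁ * (u₂ * d * u₂) * u₁ by simp only [mul_assoc],
      h2d d hd, h1d _ (inv_mem hd), inv_inv] at h
    exact mul_eq_one_iff_eq_inv.2 h
  have hDi : Nat.card (pairStab G a b) = i := by
    rw [← H.sqOne_eq hi hab]
    refine Nat.card_congr (Equiv.subtypeEquivRight fun g => ?_)
    exact ⟨fun hg => ⟨(mem_pairStab.1 hg).1, (mem_pairStab.1 hg).2, hsq g hg⟩, fun hg => mem_pairStab.2 ⟨hg.1, hg.2.1⟩⟩
  have hn := H.card_cent t ht ht1
  rw [← hcard, hDi] at hn
  -- the involutions fall into classes of `i - 1` with the same fixed points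
  set I := Finset.univ.filter fun v : G => v * v = 1 ∧ v ≠ 1 with hI
  let fs : G → Finset Ω := fun v => Finset.univ.filter fun x : Ω => v • x = x
  have hfib : ∀ S ∈ I.image fs, (I.filter fun v => fs v = S).card = i - 1 := by
    intro S hS
    obtain ⟨v, hv, rfl⟩ := Finset.mem_image.1 hS
    obtain ⟨hv2, hv1⟩ := (Finset.mem_filter.1 hv).2
    obtain ⟨x, y, hxy, hx, hy⟩ := H.exists_two_fixed hi hv2 hv1
    rw [show i - 1 = ((Finset.univ.filter fun g : G => g • x = x ∧ g • y = y ∧ g * g = 1).erase 1).card by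
      rw [Finset.card_erase_of_mem (by simp), card_filter_univ]
      exact congrArg (· - 1) (H.sqOne_eq hi hxy).symm]
    refine congrArg Finset.card (Finset.ext fun w => ?_)
    simp only [hI, Finset.mem_filter, Finset.mem_univ, true_and, Finset.mem_erase]
    constructor
    · rintro ⟨⟨hw2, hw1⟩, e⟩
      have key : ∀ z, v • z = z → w • z = z := fun z hz => by
        have hz' : z ∈ fs w := e.symm ▸ Finset.mem_filter.2 ⟨Finset.mem_univ _, hz⟩
        exact (Finset.mem_filter.1 hz').2
      exact ⟨hw1, key x hx, key y hy, hw2⟩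
    · rintro ⟨hw1, hwx, hwy, hw2⟩
      refine ⟨⟨hw2, hw1⟩, (Finset.eq_of_subset_of_card_le (fun z hz => ?_) ?_).symm⟩
      · exact Finset.mem_filter.2 ⟨Finset.mem_univ _,
          H.fixes_all hi hv2 hv1 hxy hx hy (mem_pairStab.2 ⟨hwx, hwy⟩) (Finset.mem_filter.1 hz).2⟩
      · show (Finset.univ.filter fun z : Ω => w • z = z).card ≤ (Finset.univ.filter fun z : Ω => v • z = z).card
        rw [card_filter_univ, card_filter_univ]
        exact ((H.fix w hw2 hw1).trans (H.fix v hv2 hv1).symm).le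
  have hk := card_const_fiber I (I.image fs) fs (fun v hv => Finset.mem_image_of_mem fs hv) hfib
  have hki := H.invol_mul hi
  rw [← hI, hk, ← hn] at hki
  obtain ⟨j, rfl⟩ : ∃ j, i = j + 1 := ⟨i - 1, by omega⟩
  rw [Nat.add_sub_cancel] at hki
  generalize (I.image fs).card = m at hki
  have h' : m * j * (j + 1) = ((j + 1) * (j + 2)) * ((j + 1) * (j + 1) + j) := by
    rw [hki]
    rw [show ((j + 1) * (j + 1) + (j + 1)) * ((j + 1) * (j + 1) + (j + 1)) =
      ((j + 1) * (j + 2)) * ((j + 1) * (j + 1) + j) + ((j + 1) * (j + 1) + (j + 1)) by ring, Nat.add_sub_cancel]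
  have h'' : m * j = (j + 2) * ((j + 1) * (j + 1) + j) := by
    refine Nat.eq_of_mul_eq_mul_right (show 0 < j + 1 by omega) ?_
    rw [h']; ring
  have hj2 : j ∣ 2 := by
    have : j ∣ (j * j + 5 * j + 7) * j + 2 := ⟨m, by rw [mul_comm j m, h'']; ring⟩
    exact (Nat.dvd_add_right (dvd_mul_left _ _)).1 this
  have hj : j = 2 := by
    have := Nat.le_of_dvd two_pos hj2
    omega
  subst hj
  -- the centraliser of an involution has even order
  have heven : 2 ∣ Nat.card (Subgroup.centralizer ({t} : Set G)) := by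
    rw [← orderOf_eq_prime (p := 2) (by rw [pow_two, ht]) ht1]
    exact Subgroup.orderOf_dvd_natCard _ (Subgroup.mem_centralizer_singleton_iff.2 rfl)
  rw [← hcard, hDi] at heven
  omega

end Hyp

end Cfsg.Lib.ConstFixity
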